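import Mathlib

/-!
# S3540, S3577 (HT-E, task B2): a module of order `p ^ 4` for five anticommuting involutions (helper845)

`exists_small_of`: five pairwise anticommuting involutions of a non-zero vector space over `ZMod p`, `p` odd, with product
`± 1`, leave invariant a subspace of order `p ^ 4`.
-/

set_option autoImplicit false

namespace Cfsg.Agent.H845.HT

universe u

/-- `a ^ 2 + b ^ 2 = -1` with `b ≠ 0` -/
theorem exists_sq {p : ℕ} [hp : Fact p.Prime] : ∃ a b : ZMod p, a * a + b * b = -1 ∧ b ≠ 0 := by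
  obtain ⟨a, b, h⟩ := ZMod.sq_add_sq p (-1)
  rw [pow_two, pow_two] at h
  by_cases hb : b = 0
  · refine ⟨b, a, by rw [add_comm, h], ?_⟩
    rintro rfl
    rw [hb] at h
    norm_num at h
  · exact ⟨a, b, h, hb⟩

variable {p : ℕ} [Fact p.Prime] {V : Type u} [AddCommGroup V] [Module (ZMod p) V]

theorem two_ne (hp : 3 ≤ p) : (2 : ZMod p) ≠ 0 := by
  have h : ((2 : ℕ) : ZMod p) ≠ 0 := by
    rw [Ne, ZMod.natCast_eq_zero_iff]
    intro h
    have := Nat.le_of_dvd (by norm_num) h
    omega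
  exact_mod_cast h

theorem zero_of_neg (hp : 3 ≤ p) {v : V} (h : v = -v) : v = 0 := by
  have h1 : (2 : ZMod p) • v = 0 := by
    rw [two_smul]
    nth_rewrite 1 [h]
    exact neg_add_cancel v
  exact (smul_eq_zero.1 h1).resolve_left (two_ne hp)

/-- **B2** -/
theorem exists_small_of (hp : 3 ≤ p) [Finite V] [Nontrivial V]
    {t : Fin 5 → (V ≃ₗ[ZMod p] V)} (hsq : ∀ k, t k * t k = 1)
    (hanti : ∀ j k, j ≠ k → ∀ v : V, (t j * t k) v = -(t k * t j) v)
    (hprod : (∀ v : V, (t 0 * t 1 * t 2 * t 3 * t 4) v = v) ∨ (∀ v : V, (t 0 * t 1 * t 2 * t 3 * t 4) v = -v)) :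
    ∃ W : Submodule (ZMod p) V, Nat.card W = p ^ 4 ∧ ∀ k, ∀ w ∈ W, t k w ∈ W := by
  have hs : ∀ k v, t k (t k v) = v := fun k v => by
    have := congrArg (fun f : V ≃ₗ[ZMod p] V => f v) (hsq k)
    exact this
  have ha : ∀ j k, j ≠ k → ∀ v : V, t j (t k v) = -t k (t j v) := hanti
  have h01 := ha 0 1 (by decide)
  have h02 := ha 0 2 (by decide)
  have h03 := ha 0 3 (by decide)
  have h21 := ha 2 1 (by decide)
  have h31 := ha 3 1 (by decide)
  have h32 := ha 3 2 (by decide)
  -- a fixed vector of `t 0`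
  obtain ⟨c, hc0, hc⟩ : ∃ c : V, c ≠ 0 ∧ t 0 c = c := by
    obtain ⟨v, hv⟩ := exists_ne (0 : V)
    by_cases h1 : v + t 0 v = 0
    · refine ⟨t 1 v, fun h => hv ?_, ?_⟩
      · rw [← hs 1 v, h, map_zero]
      · have h2 : t 0 v = -v := eq_neg_of_add_eq_zero_right h1
        rw [h01, h2, map_neg, neg_neg]
    · refine ⟨v + t 0 v, h1, ?_⟩
      rw [map_add, hs, add_comm]
  -- the element `x = a j + b k`
  obtain ⟨a, b, hab, hb⟩ := exists_sq (p := p)
  let j : V →ₗ[ZMod p] V := (t 1 : V →ₗ[ZMod p] V) ∘ₗ (t 2 : V →ₗ[ZMod p] V)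
  let k : V →ₗ[ZMod p] V := (t 1 : V →ₗ[ZMod p] V) ∘ₗ (t 3 : V →ₗ[ZMod p] V)
  have hj : ∀ v, j v = t 1 (t 2 v) := fun v => rfl
  have hk : ∀ v, k v = t 1 (t 3 v) := fun v => rfl
  have hjj : ∀ v, j (j v) = -v := fun v => by
    rw [hj, hj, h21, map_neg, hs, hs]
  have hkk : ∀ v, k (k v) = -v := fun v => by
    rw [hk, hk, h31, map_neg, hs, hs]
  have hjk : ∀ v, j (k v) = -k (j v) := fun v => by
    rw [hj, hk, hk, hj, h21, h31, map_neg, map_neg, hs, hs, h32, neg_neg]
  have hj0 : ∀ v, t 0 (j v) = j (t 0 v) := fun v => by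
    rw [hj, hj, h01, h02, map_neg, neg_neg]
  have hk0 : ∀ v, t 0 (k v) = k (t 0 v) := fun v => by
    rw [hk, hk, h01, h03, map_neg, neg_neg]
  have hxx : ∀ v, a • j (a • j v + b • k v) + b • k (a • j v + b • k v) = v := fun v => by
    rw [map_add, map_add, map_smul, map_smul, map_smul, map_smul, hjj, hkk, hjk]
    have : v = (-(a * a + b * b)) • v := by rw [hab, neg_neg, one_smul]
    nth_rewrite 5 [this]
    module
  obtain ⟨w, hw0, hw, hx⟩ : ∃ w : V, w ≠ 0 ∧ t 0 w = w ∧ a • j w + b • k w = w := by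
    by_cases h1 : c + (a • j c + b • k c) = 0
    · -- then `j k c` is fixed
      refine ⟨j (k c), fun h => hc0 ?_, ?_, ?_⟩
      · have h2 : k c = 0 := by
          have h3 := hjj (k c)
          rw [h, map_zero] at h3
          exact neg_eq_zero.1 h3.symm
        have h3 := hkk c
        rw [h2, map_zero] at h3
        exact neg_eq_zero.1 h3.symm
      · rw [hj0, hk0, hc]
      · have h2 : a • j c + b • k c = -c := by rw [← sub_eq_zero]; rw [sub_neg_eq_add, add_comm]; exact h1
        have h3 : a • j (j (k c)) + b • k (j (k c)) = -(j (k (a • j c + b • k c))) := by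
          rw [map_add, map_add, map_smul, map_smul, map_smul, map_smul]
          have e0 : k (j c) = -(j (k c)) := by rw [hjk, neg_neg]
          have e1 : j (k (j c)) = -(j (j (k c))) := by
            rw [e0, map_neg]
          have e2 : j (k (k c)) = -(k (j (k c))) := by
            rw [hjk (k c)]
          rw [e1, e2]
          module
        rw [h3, h2, map_neg, map_neg, neg_neg]
    · refine ⟨_, h1, ?_, ?_⟩
      · rw [map_add, map_add, map_smul, map_smul, hj0, hk0, hc]
      · have h2 := hxx c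
        generalize hy : a • j c + b • k c = y at h2 h1 ⊢
        have h3 : a • j (c + y) + b • k (c + y) = (a • j c + b • k c) + (a • j y + b • k y) := by
          rw [map_add, map_add]
          module
        rw [h3, h2, hy, add_comm]
  -- `k w`
  have hkw : k w = b⁻¹ • (w - a • j w) := by
    rw [eq_comm, inv_smul_eq_iff₀ hb, sub_eq_iff_eq_add, add_comm]
    exact hx.symm
  -- independence of `w`, `j w`
  have ind2 : ∀ c d : ZMod p, c • w + d • j w = 0 → c = 0 ∧ d = 0 := by
    intro c d h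
    by_cases hd : d = 0
    · rw [hd, zero_smul, add_zero] at h
      exact ⟨(smul_eq_zero.1 h).resolve_right hw0, hd⟩
    · exfalso
      -- `j w = e w`
      obtain ⟨e, he⟩ : ∃ e : ZMod p, j w = e • w := by
        refine ⟨-(d⁻¹ * c), ?_⟩
        have h1 : d • j w = -(c • w) := eq_neg_of_add_eq_zero_right h
        rw [neg_smul, mul_smul, ← smul_neg, ← h1, inv_smul_smul₀ hd]
      obtain ⟨f, hf⟩ : ∃ f : ZMod p, k w = f • w := by
        refine ⟨b⁻¹ * (1 - a * e), ?_⟩
        rw [hkw, he]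
        module
      have h1 := hjk w
      rw [hf, map_smul, he, map_smul, hf, smul_smul, smul_smul, mul_comm e f] at h1
      have h2 := zero_of_neg hp h1
      have h3 := (smul_eq_zero.1 h2).resolve_right hw0
      rcases mul_eq_zero.1 h3 with h4 | h4
      · rw [h4, zero_smul] at hf
        have h5 := hkk w
        rw [hf, map_zero] at h5
        exact hw0 (neg_eq_zero.1 h5.symm)
      · rw [h4, zero_smul] at he
        have h5 := hjj w
        rw [he, map_zero] at h5
        exact hw0 (neg_eq_zero.1 h5.symm)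
  -- the four vectors
  have t0jw : t 0 (j w) = j w := by rw [hj0, hw]
  have ind4 : LinearIndependent (ZMod p) ![w, j w, t 1 w, t 1 (j w)] := by
    rw [Fintype.linearIndependent_iff]
    intro g hg
    rw [Fin.sum_univ_four] at hg
    have hg' : g 0 • w + g 1 • j w + g 2 • t 1 w + g 3 • t 1 (j w) = 0 := hg
    have h1 := congrArg (t 0) hg'
    rw [map_zero, map_add, map_add, map_add, map_smul, map_smul, map_smul, map_smul, h01, h01, t0jw, hw] at h1
    have h2 : (g 0 • w + g 1 • j w) = 0 := by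
      apply zero_of_neg hp
      have h3 := congrArg₂ (· + ·) hg' h1
      simp only [add_zero] at h3
      rw [eq_neg_iff_add_eq_zero, ← h3]
      module
    have h4 : t 1 (g 2 • w + g 3 • j w) = 0 := by
      rw [map_add, map_smul, map_smul, ← hg']
      rw [h2]
      abel
    have h5 : g 2 • w + g 3 • j w = 0 := by rw [← hs 1 (g 2 • w + g 3 • j w), h4, map_zero]
    obtain ⟨e0, e1⟩ := ind2 _ _ h2
    obtain ⟨e2, e3⟩ := ind2 _ _ h5
    intro i
    fin_cases i
    · exact e0
    · exact e1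
    · exact e2
    · exact e3
  let W : Submodule (ZMod p) V := Submodule.span (ZMod p) (Set.range ![w, j w, t 1 w, t 1 (j w)])
  have hfin : Module.Finite (ZMod p) V := Module.Finite.of_finite
  have hcard : Nat.card W = p ^ 4 := by
    rw [Module.natCard_eq_pow_finrank (K := ZMod p), Nat.card_zmod, finrank_span_eq_card ind4, Fintype.card_fin]
  have m0 : w ∈ W := Submodule.subset_span ⟨0, rfl⟩
  have m1 : j w ∈ W := Submodule.subset_span ⟨1, rfl⟩
  have m2 : t 1 w ∈ W := Submodule.subset_span ⟨2, rfl⟩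
  have m3 : t 1 (j w) ∈ W := Submodule.subset_span ⟨3, rfl⟩
  have m4 : k w ∈ W := by
    rw [hkw]
    exact W.smul_mem _ (W.sub_mem m0 (W.smul_mem _ m1))
  have m5 : k (j w) ∈ W := by
    have h1 : k (j w) = -j (k w) := by rw [hjk, neg_neg]
    rw [h1, hkw, map_smul, map_sub, map_smul, hjj]
    exact W.neg_mem (W.smul_mem _ (W.sub_mem m1 (W.smul_mem _ (W.neg_mem m0))))
  have m6 : t 1 (k w) ∈ W := by
    rw [hkw, map_smul, map_sub, map_smul]
    exact W.smul_mem _ (W.sub_mem m2 (W.smul_mem _ m3))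
  have m7 : t 1 (k (j w)) ∈ W := by
    have h1 : k (j w) = -j (k w) := by rw [hjk, neg_neg]
    rw [h1, hkw, map_smul, map_sub, map_smul, hjj, map_neg, map_smul, map_sub, map_smul, map_neg]
    exact W.neg_mem (W.smul_mem _ (W.sub_mem m3 (W.smul_mem _ (W.neg_mem m2))))
  have key : ∀ f : V ≃ₗ[ZMod p] V, f w ∈ W → f (j w) ∈ W → f (t 1 w) ∈ W → f (t 1 (j w)) ∈ W →
      ∀ v ∈ W, f v ∈ W := by
    intro f f0 f1 f2 f3 v hv
    have h1 : W ≤ W.comap (f : V →ₗ[ZMod p] V) := by
      refine Submodule.span_le.2 ?_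
      rintro _ ⟨i, rfl⟩
      fin_cases i
      · exact f0
      · exact f1
      · exact f2
      · exact f3
    exact h1 hv
  have k0 : ∀ v ∈ W, t 0 v ∈ W := by
    refine key _ (by rw [hw]; exact m0) (by rw [t0jw]; exact m1) ?_ ?_
    · rw [h01, hw]; exact W.neg_mem m2
    · rw [h01, t0jw]; exact W.neg_mem m3
  have k1 : ∀ v ∈ W, t 1 v ∈ W :=
    key _ m2 m3 (by rw [hs]; exact m0) (by rw [hs]; exact m1)
  have e2 : ∀ v, t 2 v = t 1 (j v) := fun v => by rw [hj, hs]
  have e2' : ∀ v, t 2 (t 1 v) = -j v := fun v => by rw [h21, hj]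
  have e3 : ∀ v, t 3 v = t 1 (k v) := fun v => by rw [hk, hs]
  have e3' : ∀ v, t 3 (t 1 v) = -k v := fun v => by rw [h31, hk]
  have k2 : ∀ v ∈ W, t 2 v ∈ W := by
    refine key _ (by rw [e2]; exact m3) ?_ (by rw [e2']; exact W.neg_mem m1) ?_
    · rw [e2, hjj, map_neg]; exact W.neg_mem m2
    · rw [e2', hjj, neg_neg]; exact m0
  have k3 : ∀ v ∈ W, t 3 v ∈ W :=
    key _ (by rw [e3]; exact m6) (by rw [e3]; exact m7) (by rw [e3']; exact W.neg_mem m4)
      (by rw [e3']; exact W.neg_mem m5)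
  have e4 : ∀ v, t 4 v = t 3 (t 2 (t 1 (t 0 (t 0 (t 1 (t 2 (t 3 (t 4 v)))))))) := fun v => by
    rw [hs, hs, hs, hs]
  have k4 : ∀ v ∈ W, t 4 v ∈ W := by
    intro v hv
    rw [e4]
    refine k3 _ (k2 _ (k1 _ (k0 _ ?_)))
    rcases hprod with h | h
    · have h1 : t 0 (t 1 (t 2 (t 3 (t 4 v)))) = v := h v
      rw [h1]; exact hv
    · have h1 : t 0 (t 1 (t 2 (t 3 (t 4 v)))) = -v := h v
      rw [h1]; exact W.neg_mem hv
  refine ⟨W, hcard, fun i v hv => ?_⟩
  fin_cases i
  · exact k0 v hv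
  · exact k1 v hv
  · exact k2 v hv
  · exact k3 v hv
  · exact k4 v hv

end Cfsg.Agent.H845.HT
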