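import Cfsg.Agent.S0336
import Cfsg.Agent.Lib.ElemAbGL

/-!
# S3540, S3577 (HT-E, task E5): solvable groups (helper845)

* `isSolvable_of_lt` : a group of order prime to 3 and less than 29120 = `|Sz(8)|` is solvable;
* `isSolvable_of_quot` : `A ≤ F` normal, `A` cyclic, `C_G(F) ≤ A`, `G` induces a solvable group on `F / A`: `G` is solvable;
* `solvable_of_three` : E5.
-/

set_option autoImplicit false

open scoped commutatorElement

namespace Cfsg.Agent.H845.HT

universe u

theorem suzuki_lt {n : ℕ} (h : ∃ m : ℕ, 1 ≤ m ∧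
    n = (2 ^ (2 * m + 1)) ^ 2 * ((2 ^ (2 * m + 1)) ^ 2 + 1) * (2 ^ (2 * m + 1) - 1)) : 29120 ≤ n := by
  obtain ⟨m, hm, rfl⟩ := h
  have h1 : 8 ≤ 2 ^ (2 * m + 1) := by
    have : 2 ^ 3 ≤ 2 ^ (2 * m + 1) := Nat.pow_le_pow_right (by norm_num) (by omega)
    simpa using this
  generalize 2 ^ (2 * m + 1) = q at h1
  have h2 : 8 ^ 2 ≤ q ^ 2 := Nat.pow_le_pow_left h1 2
  calc 29120 = 8 ^ 2 * (8 ^ 2 + 1) * (8 - 1) := by norm_num
    _ ≤ q ^ 2 * (q ^ 2 + 1) * (q - 1) := by
      refine Nat.mul_le_mul (Nat.mul_le_mul h2 (by omega)) (by omega)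

/-- a group of order prime to 3 and less than `|Sz(8)|` is solvable -/
theorem isSolvable_of_lt (n : ℕ) : ∀ (H : Type u) [Group H] [Finite H], Nat.card H = n →
    ¬ 3 ∣ n → n < 29120 → Group.IsSolvable H := by
  induction n using Nat.strong_induction_on with
  | _ n ih =>
    intro H _ _ hn h3 hlt
    by_cases hs : IsSimpleGroup H
    · by_cases hc : ∃ a b : H, a * b ≠ b * a
      · obtain ⟨_, h⟩ := Cfsg.Agent.S0336.result hc (by rw [hn]; exact h3)
        have := suzuki_lt h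
        omega
      · push Not at hc
        exact Group.isSolvable_of_comm hc
    · by_cases ht : Nontrivial H
      · have h1 : ∃ N : Subgroup H, N.Normal ∧ N ≠ ⊥ ∧ N ≠ ⊤ := by
          by_contra hcon
          push Not at hcon
          apply hs
          exact ⟨fun N hN => or_iff_not_imp_left.2 fun hb => hcon N hN hb⟩
        obtain ⟨N, hN, hb, htop⟩ := h1
        have hcard : Nat.card (H ⧸ N) * Nat.card N = n := by rw [← Subgroup.card_eq_card_quotient_mul_card_subgroup, hn]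
        have hn0 : 0 < n := hn ▸ Nat.card_pos
        have h2 : Nat.card N < n := by
          rw [← hn]
          exact lt_of_le_of_ne (Nat.le_of_dvd Nat.card_pos (Subgroup.card_subgroup_dvd_card N))
            (fun h => htop (Subgroup.eq_top_of_card_eq N h))
        have h4 : Nat.card (H ⧸ N) < n := by
          have h5 : 1 < Nat.card N := by
            have : Nontrivial N := (Subgroup.nontrivial_iff_ne_bot N).2 hb
            exact Finite.one_lt_card
          rw [← hcard]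
          exact lt_mul_of_one_lt_right Nat.card_pos h5
        rw [Group.isSolvable_iff_subgroup_quotient N]
        exact ⟨ih _ h2 N rfl (fun h => h3 (h.trans ⟨_, by rw [← hcard, mul_comm]⟩)) (by omega),
          ih _ h4 (H ⧸ N) rfl (fun h => h3 (h.trans ⟨_, hcard.symm⟩)) (by omega)⟩
      · rw [not_nontrivial_iff_subsingleton] at ht
        exact Group.isSolvable_of_comm fun a b => Subsingleton.elim _ _

/-- kernel and image -/
theorem isSolvable_of_ker {G : Type*} [Group G] {L : Type*} [Group L] (f : G →* L) (hk : Group.IsSolvable f.ker)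
    (hr : Group.IsSolvable f.range) : Group.IsSolvable G := by
  have h1 : Group.IsSolvable (G ⧸ f.ker) :=
    Group.isSolvable_of_isSolvable_injective (f := (QuotientGroup.quotientKerEquivRange f).toMonoidHom)
      (QuotientGroup.quotientKerEquivRange f).injective
  exact (Group.isSolvable_iff_subgroup_quotient f.ker).2 ⟨hk, h1⟩

/-- automorphisms of a cyclic group commute -/
theorem aut_comm {A : Type*} [Group A] [hc : IsCyclic A] (x y : MulAut A) : x * y = y * x := by
  obtain ⟨m, hm⟩ := MonoidHom.map_cyclic x.toMonoidHom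
  obtain ⟨n, hn⟩ := MonoidHom.map_cyclic y.toMonoidHom
  ext a
  have h1 : ∀ a, x a = a ^ m := hm
  have h2 : ∀ a, y a = a ^ n := hn
  rw [MulAut.mul_apply, MulAut.mul_apply, h1, h2, h2, h1, ← zpow_mul, ← zpow_mul, mul_comm]

/-- `A ≤ F` normal, `A` cyclic, `C_G(F) ≤ A`, `G` induces a solvable group on `F / A` -/
theorem isSolvable_of_quot {G : Type u} [Group G] {A F : Subgroup G} (hA : A.Normal) (hF : F.Normal)
    (hAF : A ≤ F) (hcyc : IsCyclic A) (hC : ∀ g : G, (∀ x ∈ F, g * x = x * g) → g ∈ A) {L : Type*} [Group L]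
    (ψ : G →* L) (hψ : ∀ g, ψ g = 1 → ∀ x ∈ F, g * x * g⁻¹ * x⁻¹ ∈ A) (hr : Group.IsSolvable ψ.range) :
    Group.IsSolvable G := by
  refine isSolvable_of_ker ψ ?_ hr
  let φ : ψ.ker →* MulAut A := (MulAut.conjNormal : G →* MulAut A).comp ψ.ker.subtype
  refine isSolvable_of_ker φ ?_ (Group.isSolvable_of_comm fun a b => Subtype.ext (aut_comm _ _))
  -- the elements acting trivially on `A` and on `F / A`
  have hAc : ∀ a ∈ A, ∀ b ∈ A, a * b = b * a := fun a ha b hb =>
    congrArg Subtype.val (hcyc.commutative.is_comm.comm (⟨a, ha⟩ : A) ⟨b, hb⟩)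
  have hfix : ∀ g : φ.ker, ∀ a ∈ A, ((g : ψ.ker) : G) * a * ((g : ψ.ker) : G)⁻¹ = a := by
    intro g a ha
    have h1 : φ g = 1 := g.2
    have h2 := congrArg (fun f : MulAut A => ((f ⟨a, ha⟩ : A) : G)) h1
    exact h2
  have hquot : ∀ g : φ.ker, ∀ x ∈ F, ∃ a ∈ A, ((g : ψ.ker) : G) * x * ((g : ψ.ker) : G)⁻¹ = a * x := by
    intro g x hx
    refine ⟨_, hψ _ (g : ψ.ker).2 x hx, ?_⟩
    group
  let N : Subgroup φ.ker := (A.subgroupOf ψ.ker).subgroupOf φ.ker
  have hN : N.Normal := inferInstance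
  have hNc : Group.IsSolvable N := Group.isSolvable_of_comm fun a b => by
    apply Subtype.ext
    apply Subtype.ext
    apply Subtype.ext
    exact hAc _ a.2 _ b.2
  have hQ : Group.IsSolvable (φ.ker ⧸ N) := by
    refine Group.isSolvable_of_comm fun a b => ?_
    obtain ⟨g, rfl⟩ := QuotientGroup.mk_surjective a
    obtain ⟨h, rfl⟩ := QuotientGroup.mk_surjective b
    show ((g * h : φ.ker) : φ.ker ⧸ N) = ((h * g : φ.ker) : φ.ker ⧸ N)
    rw [QuotientGroup.eq]
    show ((((g * h)⁻¹ * (h * g) : φ.ker) : ψ.ker) : G) ∈ A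
    apply hC
    intro x hx
    obtain ⟨a, ha, hga⟩ := hquot g x hx
    obtain ⟨b, hb, hhb⟩ := hquot h x hx
    have e1 : ((g : ψ.ker) : G) * (((h : ψ.ker) : G) * x * ((h : ψ.ker) : G)⁻¹) * ((g : ψ.ker) : G)⁻¹ = b * (a * x) := by
      have e0 : ((g : ψ.ker) : G) * (b * x) * ((g : ψ.ker) : G)⁻¹ =
          (((g : ψ.ker) : G) * b * ((g : ψ.ker) : G)⁻¹) * (((g : ψ.ker) : G) * x * ((g : ψ.ker) : G)⁻¹) := by group
      rw [hhb, e0, hfix g b hb, hga]
    have e2 : ((h : ψ.ker) : G) * (((g : ψ.ker) : G) * x * ((g : ψ.ker) : G)⁻¹) * ((h : ψ.ker) : G)⁻¹ = a * (b * x) := by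
      have e0 : ((h : ψ.ker) : G) * (a * x) * ((h : ψ.ker) : G)⁻¹ =
          (((h : ψ.ker) : G) * a * ((h : ψ.ker) : G)⁻¹) * (((h : ψ.ker) : G) * x * ((h : ψ.ker) : G)⁻¹) := by group
      rw [hga, e0, hfix h a ha, hhb]
    have e3 : b * (a * x) = a * (b * x) := by rw [← mul_assoc, ← mul_assoc, hAc a ha b hb]
    have e4 := e1.trans (e3.trans e2.symm)
    show ((((g : ψ.ker) : G) * ((h : ψ.ker) : G))⁻¹ * (((h : ψ.ker) : G) * ((g : ψ.ker) : G))) * x =
      x * ((((g : ψ.ker) : G) * ((h : ψ.ker) : G))⁻¹ * (((h : ψ.ker) : G) * ((g : ψ.ker) : G)))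
    generalize ((g : ψ.ker) : G) = g' at e4 ⊢
    generalize ((h : ψ.ker) : G) = h' at e4 ⊢
    have e5 : (g' * h')⁻¹ * (h' * g') * x * ((g' * h')⁻¹ * (h' * g'))⁻¹ = x := by
      have e6 : (g' * h')⁻¹ * (h' * g') * x * ((g' * h')⁻¹ * (h' * g'))⁻¹ =
          (g' * h')⁻¹ * (h' * (g' * x * g'⁻¹) * h'⁻¹) * (g' * h') := by group
      rw [e6, ← e4]
      group
    exact mul_inv_eq_iff_eq_mul.1 e5
  exact (Group.isSolvable_iff_subgroup_quotient N).2 ⟨hNc, hQ⟩

/-- **E5** -/
theorem solvable_of_three {G : Type u} [Group G] [Finite G] (h3 : ¬ 3 ∣ Nat.card G) {A F : Subgroup G}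
    (hA : A.Normal) (hF : F.Normal) (hAF : A ≤ F) (hcyc : IsCyclic A)
    (hcen : ∀ x ∈ F, ∀ y ∈ A, x * y = y * x) (hcomm : ∀ x ∈ F, ∀ y ∈ F, ⁅x, y⁆ ∈ A)
    (hsq : ∀ x ∈ F, x ^ 2 ∈ A) (hC : ∀ g : G, (∀ x ∈ F, g * x = x * g) → g ∈ A)
    (hcard : Nat.card F = 16 * Nat.card A) : Group.IsSolvable G := by
  have : Fact (Nat.Prime 2) := ⟨Nat.prime_two⟩
  let E : Subgroup (G ⧸ A) := F.map (QuotientGroup.mk' A)
  have hE : E.Normal := hF.map _ (QuotientGroup.mk'_surjective A)
  have hEc : ∀ a b : E, a * b = b * a := by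
    rintro ⟨_, x, hx, rfl⟩ ⟨_, y, hy, rfl⟩
    apply Subtype.ext
    show QuotientGroup.mk' A x * QuotientGroup.mk' A y = QuotientGroup.mk' A y * QuotientGroup.mk' A x
    rw [← commutatorElement_eq_one_iff_mul_comm, ← map_commutatorElement]
    exact (QuotientGroup.eq_one_iff _).2 (hcomm x hx y hy)
  let _ : CommGroup E := { (inferInstance : Group E) with mul_comm := hEc }
  have hE2 : ∀ x : E, x ^ 2 = 1 := by
    rintro ⟨_, x, hx, rfl⟩
    apply Subtype.ext
    show (QuotientGroup.mk' A x) ^ 2 = 1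
    rw [← map_pow]
    exact (QuotientGroup.eq_one_iff _).2 (hsq x hx)
  have hEcard : Nat.card E = 2 ^ 4 := by
    let f : F →* E := (QuotientGroup.mk' A).subgroupMap F
    have hf : Function.Surjective f := (QuotientGroup.mk' A).subgroupMap_surjective F
    have h1 : f.ker = A.subgroupOf F := by
      ext x
      rw [MonoidHom.mem_ker, Subgroup.mem_subgroupOf, ← QuotientGroup.eq_one_iff (x : G)]
      exact ⟨fun h => congrArg Subtype.val h, fun h => Subtype.ext h⟩
    have h2 : Nat.card f.ker = Nat.card A := by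
      rw [h1]
      exact Nat.card_congr (Subgroup.subgroupOfEquivOfLe hAF).toEquiv
    have h3 := f.ker.card_mul_index
    rw [Subgroup.index_ker, MonoidHom.range_eq_top.2 hf, Subgroup.card_top, h2, hcard, mul_comm] at h3
    exact Nat.eq_of_mul_eq_mul_right Nat.card_pos h3
  obtain ⟨e⟩ := Cfsg.Agent.Lib.ElemAbGL.mulAut_equiv_GL 2 4 hE2 hEcard
  have haut : Nat.card (MulAut E) = 20160 := by
    rw [Nat.card_congr e.toEquiv, Matrix.card_GL_field]
    simp [Fin.prod_univ_succ]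
  let ψ : G →* MulAut E := (MulAut.conjNormal : G ⧸ A →* MulAut E).comp (QuotientGroup.mk' A)
  refine isSolvable_of_quot hA hF hAF hcyc hC ψ ?_ ?_
  · intro g hg x hx
    have h1 := congrArg (fun f : MulAut E => ((f ⟨_, x, hx, rfl⟩ : E) : G ⧸ A)) hg
    have h2 : QuotientGroup.mk' A g * QuotientGroup.mk' A x * (QuotientGroup.mk' A g)⁻¹ = QuotientGroup.mk' A x := h1
    rw [← QuotientGroup.eq_one_iff]
    show QuotientGroup.mk' A (g * x * g⁻¹ * x⁻¹) = 1
    rw [map_mul, map_mul, map_mul, map_inv, map_inv, h2, mul_inv_cancel]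
  · have hfin : Finite (MulAut E) := Nat.finite_of_card_ne_zero (by rw [haut]; norm_num)
    refine isSolvable_of_lt _ ψ.range rfl (fun h => h3 (h.trans (Subgroup.card_range_dvd ψ))) ?_
    have h1 := Nat.le_of_dvd (by rw [haut]; norm_num) (Subgroup.card_subgroup_dvd_card ψ.range)
    rw [haut] at h1
    omega

end Cfsg.Agent.H845.HT
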